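import Groth.Prelude.Def_DeltaF
import Mathlib.Algebra.Category.Grp.Ulift
import Mathlib.Algebra.Category.Grp.FilteredColimits
import Mathlib.Algebra.Homology.ShortComplex.Ab
import Mathlib.CategoryTheory.Limits.ConcreteCategory.Basic
import Mathlib.CategoryTheory.Limits.Preserves.Filtered

/-!
Criteria for a morphism of delta-functors with values in abelian groups to be an isomorphism.
-/

set_option autoImplicit false

universe u v w

open CategoryTheory CategoryTheory.Limits

namespace Groth.L28.Delta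

variable {C : Type u} [Category.{v} C] [Abelian C] {T T' : DeltaF.CohDeltaFunctor C AddCommGrpCat.{w} ℕ}
  (φ : T ⟶ T')

lemma bij {X Y : AddCommGrpCat.{w}} (f : X ⟶ Y) (h : IsIso f) : Function.Bijective f :=
  (ConcreteCategory.isIso_iff_bijective f).1 h

lemma app_map (n : ℕ) {X Y : C} (f : X ⟶ Y) (x : (T.F n).obj X) :
    (φ.app n).app Y ((T.F n).map f x) = (T'.F n).map f ((φ.app n).app X x) :=
  congr($((φ.app n).naturality f).hom x)

lemma app_δ (S : ShortComplex C) (hS : S.ShortExact) (n : ℕ) (z : (T.F n).obj S.X₃) :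
    (φ.app (n + 1)).app S.X₁ (T.δ S hS n (n + 1) rfl z) =
      T'.δ S hS n (n + 1) rfl ((φ.app n).app S.X₃ z) :=
  congr($(φ.comm S hS n (n + 1) rfl).hom z)

/-- the short exact sequence of a monomorphism -/
noncomputable abbrev coker {A M : C} (i : A ⟶ M) : ShortComplex C :=
  ShortComplex.mk i (cokernel.π i) (cokernel.condition i)

lemma coker_shortExact {A M : C} (i : A ⟶ M) [Mono i] : (coker i).ShortExact where
  exact := ShortComplex.exact_of_g_is_cokernel _ (cokernelIsCokernel i)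

lemma map_map_zero (T : DeltaF.CohDeltaFunctor C AddCommGrpCat.{w} ℕ) (S : ShortComplex C) (n : ℕ)
    (x : (T.F n).obj S.X₁) : (T.F n).map S.g ((T.F n).map S.f x) = 0 := by
  rw [← ConcreteCategory.comp_apply, ← Functor.map_comp, S.zero, Functor.map_zero]
  rfl

/-- injectivity in degree `q + 1` from bijectivity in degree `q`, for an element killed by a monomorphism -/
lemma eq_zero_of_killed {q : ℕ} (hq : ∀ X : C, IsIso ((φ.app q).app X)) {A M : C} (i : A ⟶ M) [Mono i]
    (x : (T.F (q + 1)).obj A) (hx : (T.F (q + 1)).map i x = 0) (hφ : (φ.app (q + 1)).app A x = 0) :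
    x = 0 := by
  have hS := coker_shortExact i
  have hb := fun X : C => bij ((φ.app q).app X) (hq X)
  obtain ⟨z, rfl⟩ := (ShortComplex.ab_exact_iff _).1 (T.exact₁ _ hS q (q + 1) rfl) x hx
  have h0 : T'.δ _ hS q (q + 1) rfl ((φ.app q).app _ z) = 0 := (app_δ φ _ hS q z).symm.trans hφ
  obtain ⟨w', hw'⟩ := (ShortComplex.ab_exact_iff _).1 (T'.exact₃ _ hS q (q + 1) rfl) _ h0
  obtain ⟨w, rfl⟩ := (hb (coker i).X₂).2 w'
  have hz : (T.F q).map (coker i).g w = z := (hb (coker i).X₃).1 (by rw [app_map]; exact hw')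
  rw [← hz]
  exact congr($(T.comp_δ _ hS q (q + 1) rfl).hom w)

/-- surjectivity in degree `q + 1` -/
lemma exists_preimage {q : ℕ} (hq : ∀ X : C, IsIso ((φ.app q).app X)) {A M : C} (i : A ⟶ M) [Mono i]
    (hM : Function.Surjective ((φ.app (q + 1)).app M))
    (hQ : Function.Injective ((φ.app (q + 1)).app (cokernel i))) (y : (T'.F (q + 1)).obj A) :
    ∃ x, (φ.app (q + 1)).app A x = y := by
  have hS := coker_shortExact i
  obtain ⟨x, hx⟩ := hM ((T'.F (q + 1)).map i y)
  have hg : (T.F (q + 1)).map (coker i).g x = 0 := hQ (by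
    rw [map_zero]
    refine ((app_map φ _ _ x).trans ?_)
    rw [hx]
    exact map_map_zero T' (coker i) _ y)
  obtain ⟨a, rfl⟩ := (ShortComplex.ab_exact_iff _).1 (T.exact₂ _ hS (q + 1)) x hg
  have h0 : (T'.F (q + 1)).map i (y - (φ.app (q + 1)).app A a) = 0 := by
    rw [map_sub, sub_eq_zero, ← hx]
    exact app_map φ _ i a
  obtain ⟨z', hz'⟩ := (ShortComplex.ab_exact_iff _).1 (T'.exact₁ _ hS q (q + 1) rfl) _ h0
  obtain ⟨z, rfl⟩ := (bij ((φ.app q).app _) (hq _)).2 z'
  refine ⟨a + T.δ _ hS q (q + 1) rfl z, ?_⟩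
  rw [map_add]
  exact (congrArg ((φ.app (q + 1)).app A a + ·) ((app_δ φ _ hS q z).trans hz')).trans (add_sub_cancel _ y)

/-- surjectivity in degree `q + 1`, for an element killed by a monomorphism -/
lemma exists_preimage_of_killed {q : ℕ} (hq : ∀ X : C, IsIso ((φ.app q).app X)) {A M : C} (i : A ⟶ M)
    [Mono i] (y : (T'.F (q + 1)).obj A) (hy : (T'.F (q + 1)).map i y = 0) :
    ∃ x, (φ.app (q + 1)).app A x = y := by
  have hS := coker_shortExact i
  obtain ⟨z', hz'⟩ := (ShortComplex.ab_exact_iff _).1 (T'.exact₁ _ hS q (q + 1) rfl) _ hy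
  obtain ⟨z, rfl⟩ := (bij ((φ.app q).app _) (hq _)).2 z'
  exact ⟨T.δ _ hS q (q + 1) rfl z, (app_δ φ _ hS q z).trans hz'⟩

lemma injective_zero (hT0 : T.ZeroMono) {A M : C} (i : A ⟶ M) [Mono i]
    (hM : Function.Injective ((φ.app 0).app M)) : Function.Injective ((φ.app 0).app A) := by
  refine (injective_iff_map_eq_zero _).2 fun x hx => ?_
  have := (AddCommGrpCat.mono_iff_injective _).1 (hT0 _ (coker_shortExact i))
  refine this ?_
  rw [map_zero]
  refine hM ?_
  rw [map_zero]
  refine (app_map φ 0 i x).trans ?_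
  rw [hx, map_zero]

lemma surjective_zero (hT'0 : T'.ZeroMono) {A M : C} (i : A ⟶ M) [Mono i]
    (hM : Function.Surjective ((φ.app 0).app M))
    (hQ : Function.Injective ((φ.app 0).app (cokernel i))) : Function.Surjective ((φ.app 0).app A) := by
  intro y
  have hS := coker_shortExact i
  obtain ⟨x, hx⟩ := hM ((T'.F 0).map i y)
  have hg : (T.F 0).map (coker i).g x = 0 := hQ (by
    rw [map_zero]
    refine ((app_map φ _ _ x).trans ?_)
    rw [hx]
    exact map_map_zero T' (coker i) _ y)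
  obtain ⟨a, rfl⟩ := (ShortComplex.ab_exact_iff _).1 (T.exact₂ _ hS 0) x hg
  exact ⟨a, (AddCommGrpCat.mono_iff_injective _).1 (hT'0 _ hS) ((app_map φ 0 i a).symm.trans hx)⟩

lemma isIso_of_bij {X Y : AddCommGrpCat.{w}} (f : X ⟶ Y) (h₁ : Function.Injective f)
    (h₂ : Function.Surjective f) : IsIso f :=
  (ConcreteCategory.isIso_iff_bijective f).2 ⟨h₁, h₂⟩

theorem criterion (hT0 : T.ZeroMono) (hT'0 : T'.ZeroMono)
    (hT : ∀ (q : ℕ) (A : C) (α : (T.F (q + 1)).obj A),
      ∃ (M : C) (u : A ⟶ M), Mono u ∧ (T.F (q + 1)).map u α = 0)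
    (E : ObjectProperty C) (hE : ∀ A : C, ∃ (M : C) (i : A ⟶ M), Mono i ∧ E M) :
    ((∀ (q : ℕ) (A : C), IsIso ((φ.app q).app A)) ↔
      ((∀ M : C, E M → IsIso ((φ.app 0).app M)) ∧
        ∀ (q : ℕ) (M : C), E M → Epi ((φ.app (q + 1)).app M))) ∧
    ((∀ (q : ℕ) (A : C), IsIso ((φ.app q).app A)) ↔
      ((∀ A : C, IsIso ((φ.app 0).app A)) ∧
        ∀ (q : ℕ) (A : C) (α : (T'.F (q + 1)).obj A),
          ∃ (M : C) (u : A ⟶ M), Mono u ∧ (T'.F (q + 1)).map u α = 0)) := by
  have hinj : ∀ q, (∀ X : C, IsIso ((φ.app q).app X)) → ∀ A, Function.Injective ((φ.app (q + 1)).app A) := by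
    refine fun q hq A => (injective_iff_map_eq_zero _).2 fun x hx => ?_
    obtain ⟨M, u, hu, hxu⟩ := hT q A x
    exact eq_zero_of_killed φ hq u x hxu hx
  refine ⟨⟨fun h => ⟨fun M _ => h 0 M, fun q M _ => ?_⟩, fun ⟨h0, hs⟩ q => ?_⟩,
    ⟨fun h => ⟨h 0, fun q A α => ?_⟩, fun ⟨h0, heff⟩ q => ?_⟩⟩
  · exact haveI := h (q + 1) M; inferInstance
  · induction q with
    | zero =>
      have hi : ∀ A, Function.Injective ((φ.app 0).app A) := fun A => by
        obtain ⟨M, i, hi, hM⟩ := hE A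
        exact injective_zero φ hT0 i (bij _ (h0 M hM)).1
      intro A
      refine isIso_of_bij _ (hi A) ?_
      obtain ⟨M, i, _, hM⟩ := hE A
      exact surjective_zero φ hT'0 i (bij _ (h0 M hM)).2 (hi _)
    | succ q ih =>
      intro A
      refine isIso_of_bij _ (hinj q ih A) fun y => ?_
      obtain ⟨M, i, _, hM⟩ := hE A
      exact exists_preimage φ ih i ((AddCommGrpCat.epi_iff_surjective _).1 (hs q M hM)) (hinj q ih _) y
  · obtain ⟨x, rfl⟩ := (bij _ (h (q + 1) A)).2 α
    obtain ⟨M, u, hu, hxu⟩ := hT q A x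
    exact ⟨M, u, hu, by rw [← app_map, hxu, map_zero]⟩
  · induction q with
    | zero => exact h0
    | succ q ih =>
      intro A
      refine isIso_of_bij _ (hinj q ih A) fun y => ?_
      obtain ⟨M, u, _, hy⟩ := heff q A y
      exact exists_preimage_of_killed φ ih u y hy

section colim

variable {J : Type v} [SmallCategory J] [IsFiltered J] {K : J ⥤ C} {c : Cocone K} (hc : IsColimit c)
  (F : C ⥤ AddCommGrpCat.{w}) [PreservesColimitsOfShape J F]

lemma preservesColimitsOfShape_forget (J : Type v) [SmallCategory J] [IsFiltered J] :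
    PreservesColimitsOfShape J (forget AddCommGrpCat.{max w v}) :=
  haveI : PreservesFilteredColimitsOfSize.{max w v, max w v} (forget AddCommGrpCat.{max w v}) :=
    AddCommGrpCat.FilteredColimits.forget_preservesFilteredColimits
  haveI : PreservesFilteredColimitsOfSize.{v, v} (forget AddCommGrpCat.{max w v}) :=
    preservesFilteredColimitsOfSize_of_univLE.{max w v, max w v} _
  inferInstance

lemma jointly_surjective (hc : IsColimit c) (x : F.obj c.pt) : ∃ j y, F.map (c.ι.app j) y = x := by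
  haveI := preservesColimitsOfShape_forget.{v, w} J
  obtain ⟨j, y, hy⟩ := Concrete.isColimit_exists_rep _
    (isColimitOfPreserves (F ⋙ AddCommGrpCat.uliftFunctor.{v, w}) hc) (ULift.up.{v} x)
  exact ⟨j, y.down, congrArg ULift.down hy⟩

lemma exists_map_eq_zero (hc : IsColimit c) {j : J} (y : F.obj (K.obj j)) (hy : F.map (c.ι.app j) y = 0) :
    ∃ (k : J) (f : j ⟶ k), F.map (K.map f) y = 0 := by
  haveI := preservesColimitsOfShape_forget.{v, w} J
  obtain ⟨k, f, g, h⟩ := (Concrete.isColimit_rep_eq_iff_exists _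
    (isColimitOfPreserves (F ⋙ AddCommGrpCat.uliftFunctor.{v, w}) hc) (i := j) (j := j)
    (ULift.up.{v} y) (ULift.up.{v} 0)).1 (congrArg ULift.up (hy.trans (map_zero (F.map (c.ι.app j)).hom).symm))
  exact ⟨k, f, (congrArg ULift.down h).trans (map_zero (F.map (K.map g)).hom)⟩

end colim

theorem criterion_colim (hT0 : T.ZeroMono) (hT'0 : T'.ZeroMono)
    [∀ n, PreservesFilteredColimitsOfSize.{v, v} (T.F n)] [∀ n, PreservesFilteredColimitsOfSize.{v, v} (T'.F n)]
    (D E : ObjectProperty C)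
    (hD : ∀ A : C, ∃ (J : Type v) (_ : SmallCategory J) (_ : IsFiltered J) (K : J ⥤ C) (c : Cocone K)
      (_ : IsColimit c), (∀ j, D (K.obj j)) ∧ Nonempty (c.pt ≅ A))
    (hE : ∀ A : C, D A → ∃ (M : C) (i : A ⟶ M), Mono i ∧ E M) :
    (∀ (q : ℕ) (A : C), IsIso ((φ.app q).app A)) ↔
      ∀ (q : ℕ) (M : C), E M → IsIso ((φ.app q).app M) := by
  refine ⟨fun h q M _ => h q M, fun h => ?_⟩
  have hb := fun q M (hM : E M) => bij ((φ.app q).app M) (h q M hM)
  have colim_inj : ∀ q, (∀ A, D A → Function.Injective ((φ.app q).app A)) →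
      ∀ A, Function.Injective ((φ.app q).app A) := by
    intro q hq A
    obtain ⟨J, _, _, K, c, hc, hK, ⟨e⟩⟩ := hD A
    refine (injective_iff_map_eq_zero _).2 fun x hx => ?_
    obtain ⟨j, y, hy⟩ := jointly_surjective (T.F q) hc ((T.F q).map e.inv x)
    have h1 : (T'.F q).map (c.ι.app j) ((φ.app q).app _ y) = 0 := by
      rw [← app_map, hy, app_map, hx, map_zero]
    obtain ⟨k, f, hf⟩ := exists_map_eq_zero (T'.F q) hc _ h1
    have h2 : (T.F q).map (K.map f) y = 0 := hq _ (hK k) (by rw [map_zero, app_map]; exact hf)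
    have h3 : (T.F q).map e.inv x = 0 := by
      rw [← hy, ← c.w f, Functor.map_comp, ConcreteCategory.comp_apply, h2, map_zero]
    rw [← map_zero ((T.F q).map e.hom).hom, ← h3, ← ConcreteCategory.comp_apply, ← Functor.map_comp,
      e.inv_hom_id, CategoryTheory.Functor.map_id]
    rfl
  have colim_surj : ∀ q, (∀ A, D A → Function.Surjective ((φ.app q).app A)) →
      ∀ A, Function.Surjective ((φ.app q).app A) := by
    intro q hq A y
    obtain ⟨J, _, _, K, c, hc, hK, ⟨e⟩⟩ := hD A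
    obtain ⟨j, y', hy'⟩ := jointly_surjective (T'.F q) hc ((T'.F q).map e.inv y)
    obtain ⟨x, rfl⟩ := hq _ (hK j) y'
    refine ⟨(T.F q).map e.hom ((T.F q).map (c.ι.app j) x), ?_⟩
    rw [app_map, app_map, hy', ← ConcreteCategory.comp_apply, ← Functor.map_comp, e.inv_hom_id,
      CategoryTheory.Functor.map_id]
    rfl
  intro q
  induction q with
  | zero =>
    have hi : ∀ A, Function.Injective ((φ.app 0).app A) := colim_inj 0 fun A hA => by
      obtain ⟨M, i, hi, hM⟩ := hE A hA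
      exact injective_zero φ hT0 i (hb 0 M hM).1
    refine fun A => isIso_of_bij _ (hi A) (colim_surj 0 (fun A hA => ?_) A)
    obtain ⟨M, i, _, hM⟩ := hE A hA
    exact surjective_zero φ hT'0 i (hb 0 M hM).2 (hi _)
  | succ q ih =>
    have hi : ∀ A, Function.Injective ((φ.app (q + 1)).app A) := colim_inj (q + 1) fun A hA => by
      obtain ⟨M, i, _, hM⟩ := hE A hA
      refine (injective_iff_map_eq_zero _).2 fun x hx => ?_
      refine eq_zero_of_killed φ ih i x ((hb (q + 1) M hM).1 ?_) hx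
      rw [map_zero, app_map, hx, map_zero]
    refine fun A => isIso_of_bij _ (hi A) (colim_surj (q + 1) (fun A hA y => ?_) A)
    obtain ⟨M, i, _, hM⟩ := hE A hA
    exact exists_preimage φ ih i (hb (q + 1) M hM).2 (hi _) y

end Groth.L28.Delta
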